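import Groth.Prelude.Def_W4c6katofiltaWFil
import Groth.Agent.CommAlg4.WittTwist
import Mathlib.RingTheory.Localization.Away.Basic
import Mathlib.RingTheory.Localization.FractionRing
import Mathlib.RingTheory.IntegralClosure.IsIntegralClosure.Basic
import Mathlib.FieldTheory.IsAlgClosed.AlgebraicClosure
import Mathlib.RingTheory.WittVector.InitTail
import Mathlib.RingTheory.WittVector.Identities
import Mathlib.RingTheory.Coprime.Lemmas

/-!
# The filtration on truncated Witt vectors: scaling into an integral extension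
-/

noncomputable section

open WittFil

namespace WittFilLib

universe u

variable {p : ℕ}

/-- `π ∣ a ^ n → π ∣ a`. -/
def Sqfree {A : Type*} [CommRing A] (π : A) : Prop := ∀ (a : A) (n : ℕ), π ∣ a ^ n → π ∣ a

lemma sqfree_prod {A : Type*} [CommRing A] [IsDomain A] [UniqueFactorizationMonoid A] {r : ℕ}
    {x : Fin r → A} (hx : ∀ i, Prime (x i)) (hxa : ∀ i j, Associated (x i) (x j) → i = j) :
    Sqfree (∏ i, x i) := by
  intro a n h
  refine Finset.prod_dvd_of_isRelPrime (fun i _ j _ hij => ?_) fun i _ => ?_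
  · refine ((hx i).irreducible.isRelPrime_iff_not_dvd).2 fun hd => hij (hxa i j ?_)
    exact (hx i).irreducible.associated_of_dvd (hx j).irreducible hd
  · exact (hx i).dvd_of_dvd_pow ((Finset.dvd_prod_of_mem x (Finset.mem_univ i)).trans h)

lemma sqfree_of_prime {A : Type*} [CommRing A] {π : A} (h : Prime π) : Sqfree π :=
  fun _ _ hd => h.dvd_of_dvd_pow hd

section Integral

variable {A B : Type u} [CommRing A] [IsDomain A] [CommRing B] [Algebra A B] {π : A}
  [IsLocalization.Away π B]

lemma algebraMap_injective (h0 : π ≠ 0) : Function.Injective (algebraMap A B) :=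
  IsLocalization.injective B (powers_le_nonZeroDivisors_of_noZeroDivisors h0)

/-- `A` is integrally closed in `A[1/π]` when `π` is squarefree. -/
lemma mem_range_of_isIntegral (h0 : π ≠ 0) (hπ : Sqfree π) {b : B} (hb : IsIntegral A b) :
    b ∈ (algebraMap A B).range := by
  obtain ⟨k, a, hka⟩ := IsLocalization.Away.surj π b
  set q := algebraMap A B π with hqdef
  have hq : IsUnit q := IsLocalization.Away.algebraMap_isUnit π
  obtain ⟨P, hP, hev⟩ := hb
  set d := P.natDegree
  induction k generalizing a with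
  | zero => exact ⟨a, by simpa using hka.symm⟩
  | succ k ih =>
    suffices hdvd : π ∣ a by
      obtain ⟨a', rfl⟩ := hdvd
      refine ih a' (hq.mul_left_cancel ?_)
      rw [hqdef, ← map_mul, ← hka, pow_succ]; ring
    have key : q ^ ((k + 1) * d) * Polynomial.eval₂ (algebraMap A B) b P = algebraMap A B
        (∑ i ∈ Finset.range (d + 1), P.coeff i * a ^ i * π ^ ((k + 1) * (d - i))) := by
      rw [Polynomial.eval₂_eq_sum_range, Finset.mul_sum, map_sum]
      refine Finset.sum_congr rfl fun i hi => ?_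
      rw [Finset.mem_range, Nat.lt_succ_iff] at hi
      rw [map_mul, map_mul, map_pow, map_pow, ← hka]
      have : (k + 1) * d = (k + 1) * (d - i) + (k + 1) * i := by
        rw [← Nat.mul_add, Nat.sub_add_cancel hi]
      rw [this, pow_add, pow_mul q (k + 1) i, mul_pow]
      ring
    rw [hev, mul_zero] at key
    have hc := algebraMap_injective (B := B) h0 (key.symm.trans (map_zero _).symm)
    rw [Finset.sum_range_succ, Nat.sub_self, mul_zero, pow_zero, mul_one,
      hP.coeff_natDegree, one_mul] at hc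
    refine hπ a d ?_
    rw [eq_neg_of_add_eq_zero_right hc, dvd_neg]
    refine Finset.dvd_sum fun i hi => ?_
    rw [Finset.mem_range] at hi
    exact Dvd.dvd.mul_left (dvd_pow_self π (Nat.mul_pos (Nat.succ_pos k) (by omega)).ne') _

/-- A field receiving `B` injectively, in which any element has roots. -/
structure Setting (A B : Type u) [CommRing A] [CommRing B] [Algebra A B] where
  /-- the field -/
  L : Type u
  [fieldL : Field L]
  [closedL : IsAlgClosed L]
  [algL : Algebra A L]
  /-- the embedding -/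
  φ : B →ₐ[A] L
  injective : Function.Injective φ
  mem_range : ∀ b : B, IsIntegral A (φ b) → b ∈ (algebraMap A B).range

attribute [instance] Setting.fieldL Setting.closedL Setting.algL

/-- The standard setting. -/
def setting (h0 : π ≠ 0) (hπ : Sqfree π) : Setting A B :=
  let K := FractionRing A
  let L := AlgebraicClosure K
  have hu : IsUnit (algebraMap A L π) := by
    rw [IsScalarTower.algebraMap_apply A K L, isUnit_iff_ne_zero, Ne,
      map_eq_zero_iff _ (RingHom.injective _), IsFractionRing.to_map_eq_zero_iff]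
    exact h0
  have hinjL : Function.Injective (algebraMap A L) := by
    rw [IsScalarTower.algebraMap_eq A K L, RingHom.coe_comp]
    exact (RingHom.injective _).comp (IsFractionRing.injective A K)
  let φ : B →ₐ[A] L :=
    { IsLocalization.Away.lift (S := B) π hu with
      commutes' := fun a => IsLocalization.Away.lift_eq π hu a }
  have hφ : Function.Injective φ := by
    rw [injective_iff_map_eq_zero]
    intro b hb
    obtain ⟨k, a, hka⟩ := IsLocalization.Away.surj π b
    have h1 := congrArg φ hka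
    rw [map_mul, hb, zero_mul, AlgHom.commutes] at h1
    have ha : a = 0 := hinjL (by rw [← h1, map_zero])
    rw [ha, map_zero] at hka
    exact ((IsLocalization.Away.algebraMap_isUnit π).pow k).mul_left_eq_zero.1 hka
  { L := L
    φ := φ
    injective := hφ
    mem_range := fun b hb => mem_range_of_isIntegral (π := π) h0 hπ
      ((isIntegral_algHom_iff φ hφ).1 hb) }

end Integral

section Fil

variable {A B : Type u} [CommRing A] [CommRing B] [Algebra A B] (σ : Setting A B) [hp : Fact p.Prime]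

/-- A root: `t ^ (p ^ (m-1)) = φ c`. -/
def Setting.IsRoot (m : ℕ) (t : σ.L) (c : B) : Prop := t ^ p ^ (m - 1) = σ.φ c

lemma exists_root (m : ℕ) (c : B) : ∃ t : σ.L, σ.IsRoot (p := p) m t c :=
  IsAlgClosed.exists_pow_nat_eq _ (Nat.pow_pos hp.out.pos)

lemma pow_sub_one {m : ℕ} (j : Fin m) : p ^ (j : ℕ) * p ^ (m - 1 - (j : ℕ)) = p ^ (m - 1) := by
  rw [← pow_add]; congr 1; have := j.2; omega

lemma scaled_pow {m : ℕ} {t : σ.L} {c : B} (ht : σ.IsRoot (p := p) m t c) (j : Fin m) (y : B) :
    (σ.φ y * t ^ p ^ (j : ℕ)) ^ p ^ (m - 1 - (j : ℕ)) = σ.φ (y ^ p ^ (m - 1 - (j : ℕ)) * c) := by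
  rw [mul_pow, ← pow_mul, pow_sub_one, ht, map_mul, map_pow]

lemma coord_iff {m : ℕ} {t : σ.L} {c : B} (ht : σ.IsRoot (p := p) m t c) (j : Fin m) (y : B) :
    y ^ p ^ (m - 1 - (j : ℕ)) * c ∈ (algebraMap A B).range ↔
      IsIntegral A (σ.φ y * t ^ p ^ (j : ℕ)) := by
  constructor
  · rintro ⟨a, ha⟩
    refine IsIntegral.of_pow (Nat.pow_pos hp.out.pos) (n := p ^ (m - 1 - (j : ℕ))) ?_
    rw [scaled_pow σ ht, ← ha, AlgHom.commutes]
    exact isIntegral_algebraMap
  · intro h
    refine σ.mem_range _ ?_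
    rw [← scaled_pow σ ht]
    exact h.pow _

lemma mem_fil_iff {m : ℕ} {t : σ.L} {c : B} (ht : σ.IsRoot (p := p) m t c) (X : WittVector p B) :
    WittVector.truncate m X ∈ fil p m (A := A) c ↔
      ∃ Z : WittVector p (integralClosure A σ.L),
        WittVector.truncate m (WittVector.map (integralClosure A σ.L).subtype Z) =
          WittVector.truncate m
            (WittVector.teichmuller p t * WittVector.map (σ.φ : B →+* σ.L) X) := by
  have hco : ∀ j : Fin m,
      (WittVector.teichmuller p t * WittVector.map (σ.φ : B →+* σ.L) X).coeff (j : ℕ) =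
        σ.φ (X.coeff j) * t ^ p ^ (j : ℕ) := fun j => by
    rw [Groth.Agent.CommAlg4.teichmuller_mul_coeff, WittVector.map_coeff, mul_comm]; rfl
  simp only [fil, Set.mem_setOf_eq, WittVector.coeff_truncate, coord_iff σ ht]
  constructor
  · intro h
    refine ⟨WittVector.mk p fun j => if hj : j < m then ⟨_, h ⟨j, hj⟩⟩ else 0, ?_⟩
    ext j
    rw [WittVector.coeff_truncate, WittVector.coeff_truncate, hco, WittVector.map_coeff,
      WittVector.coeff_mk, dif_pos j.2]
    rfl
  · rintro ⟨Z, hZ⟩ j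
    have := congrArg (TruncatedWittVector.coeff j) hZ
    rw [WittVector.coeff_truncate, WittVector.coeff_truncate, hco, WittVector.map_coeff] at this
    rw [← this]
    exact (Z.coeff j).2

include σ in
theorem sub_mem (m : ℕ) (c : B) {a b : TruncatedWittVector p m B}
    (ha : a ∈ fil p m (A := A) c) (hb : b ∈ fil p m (A := A) c) :
    a - b ∈ fil p m (A := A) c := by
  obtain ⟨X, rfl⟩ := WittVector.truncate_surjective p m B a
  obtain ⟨Y, rfl⟩ := WittVector.truncate_surjective p m B b
  obtain ⟨t, ht⟩ := exists_root (p := p) σ m c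
  obtain ⟨Z, hZ⟩ := (mem_fil_iff σ ht X).1 ha
  obtain ⟨W, hW⟩ := (mem_fil_iff σ ht Y).1 hb
  rw [← map_sub, mem_fil_iff σ ht]
  refine ⟨Z - W, ?_⟩
  rw [map_sub, map_sub, hZ, hW, ← map_sub, ← mul_sub, ← map_sub]

include σ in
theorem mul_mem (m : ℕ) (c c' : B) {a b : TruncatedWittVector p m B}
    (ha : a ∈ fil p m (A := A) c) (hb : b ∈ fil p m (A := A) c') :
    a * b ∈ fil p m (A := A) (c * c') := by
  obtain ⟨X, rfl⟩ := WittVector.truncate_surjective p m B a
  obtain ⟨Y, rfl⟩ := WittVector.truncate_surjective p m B b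
  obtain ⟨t, ht⟩ := exists_root (p := p) σ m c
  obtain ⟨t', ht'⟩ := exists_root (p := p) σ m c'
  obtain ⟨Z, hZ⟩ := (mem_fil_iff σ ht X).1 ha
  obtain ⟨W, hW⟩ := (mem_fil_iff σ ht' Y).1 hb
  have htt : σ.IsRoot (p := p) m (t * t') (c * c') := by
    unfold Setting.IsRoot at *; rw [mul_pow, ht, ht', map_mul]
  rw [← map_mul, mem_fil_iff σ htt]
  refine ⟨Z * W, ?_⟩
  rw [map_mul, map_mul, hZ, hW, ← map_mul, map_mul (WittVector.teichmuller p) t t',
    map_mul (WittVector.map _) X Y]
  congr 1
  ring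

/-- Congruence modulo the radical of `π`: if two members of `fil c` have congruent scaled
coordinates, their difference gains a factor `π`. -/
theorem sub_mem_of_congr {π : A} (hπu : IsUnit (algebraMap A B π)) (hπ : Sqfree π)
    (hinj : Function.Injective (algebraMap A B)) (m : ℕ) {c c' : B}
    (hc : algebraMap A B π * c' = c) {t : σ.L} (ht : σ.IsRoot (p := p) m t c)
    {X Y : WittVector p B} (hX : WittVector.truncate m X ∈ fil p m (A := A) c)
    (hY : WittVector.truncate m Y ∈ fil p m (A := A) c)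
    (hcongr : ∀ j : Fin m, ∃ (N : ℕ) (w : σ.L), IsIntegral A w ∧
      (σ.φ (X.coeff j) * t ^ p ^ (j : ℕ) - σ.φ (Y.coeff j) * t ^ p ^ (j : ℕ)) ^ N =
        algebraMap A σ.L π * w) :
    WittVector.truncate m X - WittVector.truncate m Y ∈ fil p m (A := A) c' := by
  obtain ⟨Z, hZ⟩ := (mem_fil_iff σ ht X).1 hX
  obtain ⟨W, hW⟩ := (mem_fil_iff σ ht Y).1 hY
  let J : Ideal (integralClosure A σ.L) :=
    (Ideal.span {algebraMap A (integralClosure A σ.L) π}).radical
  have hmap : ∀ j : Fin m, Ideal.Quotient.mk J (Z.coeff j) = Ideal.Quotient.mk J (W.coeff j) := by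
    intro j
    obtain ⟨N, w, hw, hN⟩ := hcongr j
    rw [Ideal.Quotient.mk_eq_mk_iff_sub_mem]
    refine ⟨N, Ideal.mem_span_singleton.2 ⟨⟨w, hw⟩, Subtype.ext ?_⟩⟩
    have e1 := congrArg (TruncatedWittVector.coeff j) hZ
    have e2 := congrArg (TruncatedWittVector.coeff j) hW
    rw [WittVector.coeff_truncate, WittVector.coeff_truncate, WittVector.map_coeff,
      Groth.Agent.CommAlg4.teichmuller_mul_coeff, WittVector.map_coeff, mul_comm] at e1 e2
    push_cast
    rw [show ((Z.coeff j : integralClosure A σ.L) : σ.L) = _ from e1,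
      show ((W.coeff j : integralClosure A σ.L) : σ.L) = _ from e2]
    exact hN
  have hD : WittVector.truncate m (WittVector.map (Ideal.Quotient.mk J) (Z - W)) = 0 := by
    rw [map_sub, map_sub, sub_eq_zero]
    ext j
    rw [WittVector.coeff_truncate, WittVector.coeff_truncate, WittVector.map_coeff,
      WittVector.map_coeff]
    exact hmap j
  rw [← map_sub]
  intro j
  rw [WittVector.coeff_truncate]
  have hsub : σ.φ ((X - Y).coeff j) * t ^ p ^ (j : ℕ) = ((Z - W).coeff j : σ.L) := by
    have e : WittVector.truncate m (WittVector.map (integralClosure A σ.L).subtype (Z - W)) =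
        WittVector.truncate m
          (WittVector.teichmuller p t * WittVector.map (σ.φ : B →+* σ.L) (X - Y)) := by
      rw [map_sub, map_sub, hZ, hW, ← map_sub, ← mul_sub, ← map_sub]
    have e1 := congrArg (TruncatedWittVector.coeff j) e
    rw [WittVector.coeff_truncate, WittVector.coeff_truncate, WittVector.map_coeff,
      Groth.Agent.CommAlg4.teichmuller_mul_coeff, WittVector.map_coeff, mul_comm] at e1
    exact e1.symm
  have hj : (Z - W).coeff j ∈ J := by
    have := congrArg (TruncatedWittVector.coeff j) hD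
    rw [WittVector.coeff_truncate, WittVector.map_coeff, TruncatedWittVector.coeff_zero] at this
    exact Ideal.Quotient.eq_zero_iff_mem.1 this
  obtain ⟨b, hb⟩ := (coord_iff σ ht j ((X - Y).coeff j)).2 (hsub ▸ ((Z - W).coeff j).2)
  have hbJ : algebraMap A (integralClosure A σ.L) b ∈ J := by
    have : algebraMap A (integralClosure A σ.L) b = (Z - W).coeff j ^ p ^ (m - 1 - (j : ℕ)) := by
      refine Subtype.ext ?_
      push_cast
      rw [← hsub, scaled_pow σ ht, ← hb, AlgHom.commutes]
    rw [this]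
    exact J.pow_mem_of_mem hj _ (Nat.pow_pos hp.out.pos)
  obtain ⟨M, hM⟩ := hbJ
  obtain ⟨w, hw⟩ := Ideal.mem_span_singleton.1 hM
  have hw' : algebraMap A σ.L b ^ M = algebraMap A σ.L π * (w : σ.L) := congrArg Subtype.val hw
  obtain ⟨v, hv⟩ := hπu.exists_right_inv
  have hint : IsIntegral A (σ.φ (algebraMap A B b ^ M * v)) := by
    have h1 : algebraMap A σ.L π * σ.φ v = 1 := by
      rw [← AlgHom.commutes σ.φ, ← map_mul, hv, map_one]
    rw [map_mul, map_pow, AlgHom.commutes, hw', mul_comm (algebraMap A σ.L π), mul_assoc, h1,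
      mul_one]
    exact w.2
  obtain ⟨a', ha'⟩ := σ.mem_range _ hint
  have hdvd : π ∣ b ^ M := ⟨a', hinj (by
    rw [map_pow, map_mul, ha']
    linear_combination (-(algebraMap A B b ^ M)) * hv)⟩
  obtain ⟨b', rfl⟩ := hπ b M hdvd
  refine ⟨b', hπu.mul_left_cancel ?_⟩
  rw [← map_mul, hb, ← hc]; ring

end Fil

section Zmon

lemma zmon_add {B : Type*} [CommRing B] {r : ℕ} (u : Fin r → Bˣ) (n n' : Fin r → ℤ) :
    zmon u (n + n') = zmon u n * zmon u n' := by
  simp [zmon, zpow_add, Finset.prod_mul_distrib]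

lemma zmon_nat {A B : Type*} [CommRing A] [CommRing B] [Algebra A B] {r : ℕ} (x : Fin r → A)
    (u : Fin r → Bˣ) (hu : ∀ i, (u i : B) = algebraMap A B (x i)) (n : Fin r → ℕ) :
    zmon u (fun i => (n i : ℤ)) = algebraMap A B (∏ i, x i ^ n i) := by
  simp [zmon, hu]

lemma zmon_smul {B : Type*} [CommRing B] {r : ℕ} (u : Fin r → Bˣ) (n : Fin r → ℤ) (P : ℕ) :
    zmon u (fun i => (P : ℤ) * n i) = zmon u n ^ P := by
  simp only [zmon, ← Units.val_pow_eq_pow_val, ← Finset.prod_pow]
  congr 1
  refine Finset.prod_congr rfl fun i _ => ?_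
  rw [mul_comm, zpow_mul, zpow_natCast]

/-- `g ^ P * u ^ n ∈ A` forces `g * u ^ ⌊n / P⌋ ∈ A`. -/
lemma floor_mem {A B : Type u} [CommRing A] [IsDomain A] [CommRing B] [Algebra A B] {r : ℕ}
    {x : Fin r → A} [IsLocalization.Away (∏ i, x i) B] (h0 : ∏ i, x i ≠ 0)
    (hsf : Sqfree (∏ i, x i)) (hsfi : ∀ i (a : A) (k : ℕ), x i ∣ a ^ k → x i ∣ a)
    (hdiv : ∀ a : A, (∀ i, x i ∣ a) → ∏ i, x i ∣ a) {u : Fin r → Bˣ}
    (hu : ∀ i, (u i : B) = algebraMap A B (x i)) (g : B) {P : ℕ} (hP : 0 < P) (n : Fin r → ℤ)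
    (h : g ^ P * zmon u n ∈ (algebraMap A B).range) :
    g * zmon u (fun i => n i / (P : ℤ)) ∈ (algebraMap A B).range := by
  set k : Fin r → ℤ := fun i => n i / (P : ℤ)
  let r' : Fin r → ℕ := fun i => (n i % (P : ℤ)).toNat
  have hr' : ∀ i, (r' i : ℤ) = n i % (P : ℤ) := fun i =>
    Int.toNat_of_nonneg (Int.emod_nonneg _ (by exact_mod_cast hP.ne'))
  have hrlt : ∀ i, r' i < P := fun i => by
    have h1 := hr' i
    have h2 := Int.emod_lt_of_pos (n i) (show (0 : ℤ) < P by exact_mod_cast hP)
    omega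
  have hn : n = (fun i => (P : ℤ) * k i) + fun i => ((r' i : ℕ) : ℤ) := by
    funext i; rw [Pi.add_apply, hr']; exact (Int.mul_ediv_add_emod _ _).symm
  set y := g * zmon u k
  have hy : y ^ P * algebraMap A B (∏ i, x i ^ r' i) ∈ (algebraMap A B).range := by
    rw [mul_pow, ← zmon_smul, ← zmon_nat x u hu r', mul_assoc, ← zmon_add, ← hn]
    exact h
  obtain ⟨z, hz⟩ := hy
  have key : (y * algebraMap A B (∏ i, x i)) ^ P =
      algebraMap A B (z * ∏ i, x i ^ (P - r' i)) := by
    rw [map_mul, hz, mul_pow, mul_assoc, ← map_mul, ← Finset.prod_mul_distrib, ← map_pow,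
      ← Finset.prod_pow]
    congr 2
    refine Finset.prod_congr rfl fun i _ => ?_
    rw [← pow_add, Nat.add_sub_cancel' (hrlt i).le]
  obtain ⟨a, ha⟩ := mem_range_of_isIntegral (π := ∏ i, x i) h0 hsf
    (b := y * algebraMap A B (∏ i, x i))
    (IsIntegral.of_pow hP (by rw [key]; exact isIntegral_algebraMap))
  have ha' : a ^ P = z * ∏ i, x i ^ (P - r' i) :=
    algebraMap_injective (B := B) h0 (by rw [map_pow, ha, key])
  have hdvd : ∏ i, x i ∣ a := by
    refine hdiv a fun i => hsfi i a P ?_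
    rw [ha']
    exact Dvd.dvd.mul_left ((dvd_pow_self (x i) (Nat.sub_pos_of_lt (hrlt i)).ne').trans
      (Finset.dvd_prod_of_mem (fun i => x i ^ (P - r' i)) (Finset.mem_univ i))) _
  obtain ⟨b, rfl⟩ := hdvd
  refine ⟨b, (IsLocalization.Away.algebraMap_isUnit (S := B) (∏ i, x i)).mul_right_cancel ?_⟩
  rw [← ha, map_mul]; ring

lemma ufd_hyps {A : Type*} [CommRing A] [IsDomain A] [UniqueFactorizationMonoid A] {r : ℕ}
    {x : Fin r → A} (hx : ∀ i, Prime (x i)) (hxa : ∀ i j, Associated (x i) (x j) → i = j) :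
    (∏ i, x i ≠ 0) ∧ Sqfree (∏ i, x i) ∧ (∀ i (a : A) (k : ℕ), x i ∣ a ^ k → x i ∣ a) ∧
      ∀ a : A, (∀ i, x i ∣ a) → ∏ i, x i ∣ a :=
  ⟨Finset.prod_ne_zero_iff.2 fun i _ => (hx i).ne_zero, sqfree_prod hx hxa,
    fun i _ _ h => (hx i).dvd_of_dvd_pow h, fun _ ha =>
      Finset.prod_dvd_of_isRelPrime (fun i _ j _ hij =>
        ((hx i).irreducible.isRelPrime_iff_not_dvd).2 fun hd =>
          hij (hxa i j ((hx i).irreducible.associated_of_dvd (hx j).irreducible hd)))
        fun i _ => ha i⟩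

end Zmon

end WittFilLib
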