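import Groth.Agent.WittFilLib.Basic

/-!
# The one-variable case
-/

noncomputable section

open WittFil

namespace WittFilLib

universe u

variable {p : ℕ}

lemma vShiftTeich_coeff [hp : Fact p.Prime] {S B : Type*} [CommRing S] [CommRing B] [Algebra S B]
    (m s : ℕ) (v : B) (c : WittVector p S) (j : Fin m) :
    (vShiftTeich p m s v c).coeff j = if (j : ℕ) < s then 0
      else algebraMap S B (c.coeff ((j : ℕ) - s)) * v ^ p ^ ((j : ℕ) - s) := by
  rw [vShiftTeich, WittVector.coeff_truncate]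
  split_ifs with h
  · exact WittVector.iterate_verschiebung_coeff_eq_zero _ h
  · conv_lhs => rw [← Nat.sub_add_cancel (not_lt.1 h)]
    rw [WittVector.iterate_verschiebung_coeff, mul_comm,
      Groth.Agent.CommAlg4.teichmuller_mul_coeff, WittVector.map_coeff, mul_comm]

variable {A B : Type u} [CommRing A] [IsDomain A] [CommRing B] [Algebra A B] {π : A}
  [IsLocalization.Away π B]

lemma floor_one (hπ : Prime π) {u : Bˣ} (hu : (u : B) = algebraMap A B π) (g : B) {P : ℕ}
    (hP : 0 < P) (n : ℤ) (h : g ^ P * ((u ^ n : Bˣ) : B) ∈ (algebraMap A B).range) :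
    g * ((u ^ (n / (P : ℤ)) : Bˣ) : B) ∈ (algebraMap A B).range := by
  haveI : IsLocalization.Away (∏ _i : Fin 1, π) B := by simpa
  have := floor_mem (x := fun _ : Fin 1 => π) (u := fun _ => u) (by simpa using hπ.ne_zero)
    (by simpa using sqfree_of_prime hπ) (fun _ _ _ h => hπ.dvd_of_dvd_pow h)
    (fun a ha => by simpa using ha 0) (fun _ => hu) g hP (fun _ => n) (by simpa [zmon] using h)
  simpa [zmon] using this

/-- If the index is not divisible by `P`, the condition sharpens by one step. -/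
lemma sharpen (hπ : Prime π) {u : Bˣ} (hu : (u : B) = algebraMap A B π) (g : B) {P : ℕ}
    (hP : 0 < P) (n : ℤ) (hn : ¬ (P : ℤ) ∣ n)
    (h : g ^ P * ((u ^ n : Bˣ) : B) ∈ (algebraMap A B).range) :
    g ^ P * ((u ^ (n - 1) : Bˣ) : B) ∈ (algebraMap A B).range := by
  obtain ⟨a, ha⟩ := floor_one hπ hu g hP n h
  have hP' : (0 : ℤ) < P := by exact_mod_cast hP
  obtain ⟨e, he⟩ : ∃ e : ℕ, n - 1 = (P : ℤ) * (n / (P : ℤ)) + e := by
    refine ⟨(n % (P : ℤ) - 1).toNat, ?_⟩
    have h1 := Int.emod_nonneg n hP'.ne'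
    have h2 : n % (P : ℤ) ≠ 0 := fun h => hn (Int.dvd_of_emod_eq_zero h)
    have h3 := Int.mul_ediv_add_emod n (P : ℤ)
    omega
  refine ⟨a ^ P * π ^ e, ?_⟩
  rw [map_mul, map_pow, map_pow, ha, ← hu, mul_pow, mul_assoc, he, zpow_add, Units.val_mul,
    zpow_natCast, Units.val_pow_eq_pow_val]
  congr 2
  rw [mul_comm (P : ℤ), zpow_mul, zpow_natCast, Units.val_pow_eq_pow_val]

end WittFilLib
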